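/-
Isotypic components and theta-stability of equivariant modules.
-/
import Groth.Agent.Comod.DualModule
import Groth.Prelude.Def_W4c3ghconstell
import Mathlib

set_option autoImplicit false

universe u v w x

open TensorProduct

noncomputable section

namespace Groth.Agent.ThetaConst

open W4c3ghconstell Groth.Agent.Comod

section Coalg

variable {k : Type u} [Field k] {A : Type v} [AddCommGroup A] [Module k A] [Coalgebra k A]

local notation "Δ" => CoalgebraStruct.comul (R := k) (A := A)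

lemma cR_lTensor {V : Type*} [AddCommGroup V] [Module k V] {D : Type*} [AddCommGroup D]
    [Module k D] (p : D →ₗ[k] A) (f : A →ₗ[k] k) (t : V ⊗[k] D) :
    cR f (p.lTensor V t) = cR (f ∘ₗ p) t := by
  induction t using TensorProduct.induction_on with
  | zero => simp
  | tmul a b => simp
  | add a b ha hb => simp [ha, hb]

lemma cL_rTensor {V W : Type*} [AddCommGroup V] [Module k V] [AddCommGroup W] [Module k W]
    (p : V →ₗ[k] W) (φ : W →ₗ[k] k) (t : V ⊗[k] A) :
    cL φ (p.rTensor A t) = cL (φ ∘ₗ p) t := by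
  induction t using TensorProduct.induction_on with
  | zero => simp
  | tmul a b => simp
  | add a b ha hb => simp [ha, hb]

lemma isSubcoalg_iff (D : Submodule k A) :
    IsSubcoalg k A D ↔ ∀ d ∈ D, (∀ f, cR f (Δ d) ∈ D) ∧ ∀ φ, cL φ (Δ d) ∈ D := by
  simp only [IsSubcoalg, mem_range_map_iff]

lemma isSubcoalg_inf {D E : Submodule k A} (hD : IsSubcoalg k A D) (hE : IsSubcoalg k A E) :
    IsSubcoalg k A (D ⊓ E) := by
  rw [isSubcoalg_iff] at *
  exact fun d hd => ⟨fun f => ⟨(hD d hd.1).1 f, (hE d hd.2).1 f⟩,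
    fun φ => ⟨(hD d hd.1).2 φ, (hE d hd.2).2 φ⟩⟩

lemma isSubcoalg_sup {D E : Submodule k A} (hD : IsSubcoalg k A D) (hE : IsSubcoalg k A E) :
    IsSubcoalg k A (D ⊔ E) := by
  rw [isSubcoalg_iff] at *
  intro d hd
  obtain ⟨a, ha, b, hb, rfl⟩ := Submodule.mem_sup.1 hd
  refine ⟨fun f => ?_, fun φ => ?_⟩ <;> rw [map_add, map_add]
  · exact add_mem (Submodule.mem_sup_left ((hD a ha).1 f)) (Submodule.mem_sup_right ((hE b hb).1 f))
  · exact add_mem (Submodule.mem_sup_left ((hD a ha).2 φ)) (Submodule.mem_sup_right ((hE b hb).2 φ))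

lemma isSubcoalg_finset_sup (F : Finset (SimpSub k A)) :
    IsSubcoalg k A (F.sup fun D => D.1) := by
  induction F using Finset.cons_induction with
  | empty =>
    rw [Finset.sup_empty, isSubcoalg_iff]
    intro d hd
    obtain rfl := (Submodule.mem_bot k).1 hd
    simp
  | cons D F hD ih =>
    rw [Finset.sup_cons]
    exact isSubcoalg_sup D.2.2.1 ih

lemma exists_functional {P Q : Submodule k A} (h : Disjoint P Q) (g : A →ₗ[k] k) :
    ∃ f : A →ₗ[k] k, (∀ a ∈ P, f a = g a) ∧ ∀ a ∈ Q, f a = 0 := by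
  obtain ⟨R, hR⟩ := (P ⊔ Q).exists_isCompl
  have hPQR : IsCompl P (Q ⊔ R) :=
    ⟨h.disjoint_sup_right_of_disjoint_sup_left hR.1,
      codisjoint_iff.2 (by rw [← sup_assoc, hR.sup_eq_top])⟩
  refine ⟨g ∘ₗ P.subtype ∘ₗ P.projectionOnto (Q ⊔ R) hPQR, fun a ha => ?_, fun a ha => ?_⟩
  · rw [LinearMap.comp_apply, LinearMap.comp_apply,
      Submodule.projectionOnto_apply_of_mem_left hPQR ha]
    rfl
  · rw [LinearMap.comp_apply, LinearMap.comp_apply,
      Submodule.projectionOnto_apply_of_mem_right hPQR (Submodule.mem_sup_left ha)]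
    simp

/-- Distinct simple subcoalgebras are independent. -/
lemma disjoint_finset_sup (D₀ : SimpSub k A) (F : Finset (SimpSub k A)) (h : D₀ ∉ F) :
    Disjoint D₀.1 (F.sup fun D => D.1) := by
  induction F using Finset.cons_induction with
  | empty => simp
  | cons D₁ F hD₁ ih =>
    rw [Finset.mem_cons, not_or] at h
    have hE := ih h.2
    have h1 : Disjoint D₀.1 D₁.1 := by
      rw [disjoint_iff]
      refine (D₀.2.2.2 _ inf_le_left (isSubcoalg_inf D₀.2.2.1 D₁.2.2.1)).resolve_right fun e => ?_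
      refine h.1 (Subtype.ext ?_)
      have hle : D₀.1 ≤ D₁.1 := inf_eq_left.1 e
      exact (D₁.2.2.2 _ hle D₀.2.2.1).resolve_left D₀.2.1
    rw [Finset.sup_cons, disjoint_iff]
    refine (D₀.2.2.2 _ inf_le_left (isSubcoalg_inf D₀.2.2.1
      (isSubcoalg_sup D₁.2.2.1 (isSubcoalg_finset_sup F)))).resolve_right fun e => D₀.2.1 ?_
    obtain ⟨f, hf₀, hf₁⟩ := exists_functional h1 (CoalgebraStruct.counit (R := k) (A := A))
    refine disjoint_self.1 (hE.mono_right fun d hd => ?_)
    obtain ⟨a, ha, b, hb, rfl⟩ := Submodule.mem_sup.1 (inf_eq_left.1 e hd)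
    have hc : cL (CoalgebraStruct.counit (R := k) (A := A)) (Δ (a + b)) = a + b := by
      simp [cL]
    have key : cL f (Δ (a + b)) = a + b := by
      refine Eq.trans ?_ hc
      obtain ⟨s, hs⟩ := (mem_range_rTensor_iff _ _).2 ((isSubcoalg_iff _).1 D₀.2.2.1 _ hd).1
      rw [← hs, cL_rTensor, cL_rTensor]
      congr 2
      exact LinearMap.ext fun y => hf₀ y.1 y.2
    rw [← key, map_add, map_add]
    have za : cL f (Δ a) = 0 := by
      obtain ⟨s, hs⟩ := (mem_range_rTensor_iff _ _).2 ((isSubcoalg_iff _).1 D₁.2.2.1 _ ha).1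
      rw [← hs, cL_rTensor,
        show f ∘ₗ D₁.1.subtype = 0 from LinearMap.ext fun y => hf₁ y.1 y.2]
      simp [cL]
    rw [za, zero_add]
    exact ((isSubcoalg_iff _).1 (isSubcoalg_finset_sup F) _ hb).2 f

variable (M : Type x) [AddCommGroup M] [Module k M] [HopfRep.Comod k A M]

local notation "ρ" => HopfRep.Comod.coact (k := k) (A := A) (V := M)

lemma isSubcomod_iff' {W : Submodule k M} :
    HopfRep.IsSubcomod (k := k) (A := A) W ↔
      ∀ w ∈ W, ∀ f, cR f (HopfRep.Comod.coact (k := k) (A := A) w) ∈ W := by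
  simp only [HopfRep.IsSubcomod, mem_range_rTensor_iff]

lemma mem_isoComp_iff (D : Submodule k A) (m : M) :
    m ∈ isoComp M D ↔ ∀ φ, cL φ (HopfRep.Comod.coact (k := k) (A := A) m) ∈ D := by
  rw [isoComp, Submodule.mem_comap, mem_range_lTensor_iff]

lemma cR_counit (m : M) : cR (CoalgebraStruct.counit (R := k) (A := A))
    (HopfRep.Comod.coact (k := k) (A := A) m) = m := by
  have h := LinearMap.congr_fun (HopfRep.Comod.counit_comp (k := k) (A := A) (V := M)) m
  simp only [LinearMap.comp_apply] at h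
  simp [cR, h]

lemma cR_eq_of_mem {D : Submodule k A} {m : M} (hm : m ∈ isoComp M D) {f g : A →ₗ[k] k}
    (h : ∀ d ∈ D, f d = g d) :
    cR f (HopfRep.Comod.coact (k := k) (A := A) m) =
      cR g (HopfRep.Comod.coact (k := k) (A := A) m) := by
  obtain ⟨s, hs⟩ := hm
  rw [← hs, cR_lTensor, cR_lTensor]
  congr 2
  exact LinearMap.ext fun y => h y.1 y.2

lemma isSubcomod_isoComp {D : Submodule k A} (hD : IsSubcoalg k A D) :
    HopfRep.IsSubcomod (k := k) (A := A) (isoComp M D) := by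
  rw [isSubcomod_iff']
  intro m hm f
  rw [mem_isoComp_iff] at hm ⊢
  intro φ
  have h := coeff_smul (K := k) (C := A) (V := M) (WithConv.toConv f) φ m
  rw [dact_apply, dact_apply] at h
  have h' : cR f (Δ (cL φ (HopfRep.Comod.coact (k := k) (A := A) m))) ∈ D :=
    ((isSubcoalg_iff D).1 hD _ (hm φ)).1 f
  exact h ▸ h'

/-- A subcomodule is the sum of its isotypic parts. -/
lemma le_iSup_inf (htop : (⨆ D : SimpSub k A, isoComp M D.1) = ⊤) {N : Submodule k M}
    (hN : HopfRep.IsSubcomod (k := k) (A := A) N) :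
    N ≤ ⨆ D : SimpSub k A, N ⊓ isoComp M D.1 := by
  classical
  intro y hy
  obtain ⟨g, hg, rfl⟩ := (Submodule.mem_iSup_iff_exists_finsupp _ _).1
    (show y ∈ ⨆ D : SimpSub k A, isoComp M D.1 by rw [htop]; trivial)
  refine Submodule.sum_mem _ fun D₀ hD₀ => Submodule.mem_iSup_of_mem D₀ ⟨?_, hg D₀⟩
  obtain ⟨f, hf₀, hf₁⟩ := exists_functional (disjoint_finset_sup D₀ (g.support.erase D₀)
    (Finset.notMem_erase _ _)) (CoalgebraStruct.counit (R := k) (A := A))
  have key : cR f (HopfRep.Comod.coact (k := k) (A := A) (g.sum fun _ m => m)) = g D₀ := by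
    rw [Finsupp.sum, map_sum, map_sum, Finset.sum_eq_single_of_mem D₀ hD₀]
    · rw [cR_eq_of_mem M (hg D₀) hf₀, cR_counit]
    · intro D hD hne
      have h0 := cR_eq_of_mem M (f := f) (g := 0) (hg D) fun d hd => hf₁ d
        (Finset.le_sup (f := fun D : SimpSub k A => D.1) (Finset.mem_erase.2 ⟨hne, hD⟩) hd)
      rw [h0]
      simp [cR]
  exact key ▸ (isSubcomod_iff' M).1 hN _ hy f

end Coalg

section Gen

variable {k : Type u} [Field k] {A : Type v} [CommRing A] [HopfAlgebra k A]
  {R : Type w} [CommRing R] [Algebra k R] [HopfRep.Comod k A R]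
  {M : Type x} [AddCommGroup M] [Module k M] [Module R M] [IsScalarTower k R M]
  [HopfRep.Comod k A M] [TameAct.IsHopfMod k A R M]

lemma genIn_le (S : Set (SimpSub k A)) (N : Submodule R M) : genIn k A R M S N ≤ N := by
  rw [genIn, Submodule.span_le]
  simp only [Set.iUnion_subset_iff]
  exact fun D _ m hm => hm.1

lemma inf_le_genIn (S : Set (SimpSub k A)) (N : Submodule R M) {D : SimpSub k A} (hD : D ∈ S) :
    N.restrictScalars k ⊓ isoComp M D.1 ≤
      (genIn k A R M S N).restrictScalars k ⊓ isoComp M D.1 :=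
  fun _ hm => ⟨Submodule.subset_span (Set.mem_biUnion hD hm), hm.2⟩

lemma inf_genIn (S : Set (SimpSub k A)) (N : Submodule R M) {D : SimpSub k A} (hD : D ∈ S) :
    (genIn k A R M S N).restrictScalars k ⊓ isoComp M D.1 =
      N.restrictScalars k ⊓ isoComp M D.1 :=
  le_antisymm (inf_le_inf_right _ fun _ hm => genIn_le S N hm) (inf_le_genIn S N hD)

lemma genIn_genIn (S : Set (SimpSub k A)) (N : Submodule R M) :
    genIn k A R M S (genIn k A R M S N) = genIn k A R M S N := by
  refine le_antisymm (genIn_le _ _) (Submodule.span_mono ?_)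
  simp only [Set.iUnion_subset_iff]
  exact fun D hD m hm => Set.mem_biUnion hD (inf_le_genIn S N hD hm)

lemma isSubcomod_genIn (S : Set (SimpSub k A)) {N : Submodule R M}
    (hN : HopfRep.IsSubcomod (k := k) (A := A) (N.restrictScalars k)) :
    HopfRep.IsSubcomod (k := k) (A := A) ((genIn k A R M S N).restrictScalars k) := by
  set G := genIn k A R M S N with hG
  intro y hy
  change y ∈ G at hy
  induction hy using Submodule.span_induction with
  | mem z hz =>
    obtain ⟨D, hD, hz⟩ := Set.mem_iUnion₂.1 hz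
    rw [mem_range_rTensor_iff]
    intro f
    exact (inf_le_genIn S N hD ⟨(isSubcomod_iff' M).1 hN z hz.1 f,
      (isSubcomod_iff' M).1 (isSubcomod_isoComp M D.2.2.1) z hz.2 f⟩).1
  | zero => rw [map_zero]; exact zero_mem _
  | add a b _ _ ha hb => rw [map_add]; exact add_mem ha hb
  | smul r z _ hz =>
    rw [TameAct.IsHopfMod.coact_smul]
    obtain ⟨s, hs⟩ := hz
    rw [← hs]
    generalize HopfRep.Comod.coact (k := k) (A := A) r = t
    clear hs
    induction t using TensorProduct.induction_on with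
    | zero => simp
    | add a b ha hb => rw [map_add, LinearMap.add_apply]; exact add_mem ha hb
    | tmul b a =>
      induction s using TensorProduct.induction_on with
      | zero => simp
      | add s t hs ht => rw [map_add, map_add]; exact add_mem hs ht
      | tmul m a' =>
        refine ⟨(⟨b • m.1, G.smul_mem b m.2⟩ : ↥(G.restrictScalars k)) ⊗ₜ[k] (a * a'), ?_⟩
        simp

end Gen

section Theta

variable {k : Type u} [Field k] {A : Type v} [AddCommGroup A] [Module k A] [Coalgebra k A]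
  {M : Type x} [AddCommGroup M] [Module k M] [HopfRep.Comod k A M]
  {h : SimpSub k A → ℕ} {θ : SimpSub k A → ℚ}

/-- The isotypic components are finite-dimensional of the given dimensions. -/
def IsDim (M : Type x) [AddCommGroup M] [Module k M] [HopfRep.Comod k A M]
    (h : SimpSub k A → ℕ) : Prop :=
  ∀ D : SimpSub k A, Module.Finite k ↥(isoComp M D.1) ∧ Module.finrank k ↥(isoComp M D.1) = h D

lemma hilbAt_mono (hM : IsDim M h) {N N' : Submodule k M} (D : SimpSub k A)
    (hle : N ⊓ isoComp M D.1 ≤ N' ⊓ isoComp M D.1) : hilbAt M N D ≤ hilbAt M N' D := by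
  haveI := (hM D).1
  haveI : Module.Finite k ↥(N' ⊓ isoComp M D.1) :=
    Submodule.finiteDimensional_of_le inf_le_right
  exact Submodule.finrank_mono hle

lemma hilbAt_top (hM : IsDim M h) (D : SimpSub k A) : hilbAt M ⊤ D = h D := by
  rw [hilbAt, top_inf_eq, (hM D).2]

lemma hilbAt_le (hM : IsDim M h) (N : Submodule k M) (D : SimpSub k A) : hilbAt M N D ≤ h D :=
  hilbAt_top hM D ▸ hilbAt_mono hM D (inf_le_inf_right _ le_top)

lemma hilbAt_eq_zero_iff (hM : IsDim M h) (N : Submodule k M) (D : SimpSub k A) :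
    hilbAt M N D = 0 ↔ N ⊓ isoComp M D.1 = ⊥ := by
  haveI := (hM D).1
  haveI : Module.Finite k ↥(N ⊓ isoComp M D.1) :=
    Submodule.finiteDimensional_of_le inf_le_right
  exact Submodule.finrank_eq_zero

lemma isoComp_le_of_hilbAt (hM : IsDim M h) {N : Submodule k M} {D : SimpSub k A}
    (he : hilbAt M N D = h D) : isoComp M D.1 ≤ N := by
  haveI := (hM D).1
  exact inf_eq_right.1 (Submodule.eq_of_le_of_finrank_eq inf_le_right (he.trans (hM D).2.symm))

lemma hilbAt_bot (D : SimpSub k A) : hilbAt M (⊥ : Submodule k M) D = 0 := by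
  rw [hilbAt, bot_inf_eq]
  exact finrank_bot k M

lemma theta_bot : theta M θ (⊥ : Submodule k M) = 0 := by
  simp [theta, hilbAt_bot]

lemma theta_top (hM : IsDim M h) (hsum : HasSum (fun D => (θ D : ℝ) * (h D : ℝ)) 0) :
    theta M θ ⊤ = 0 := by
  simp only [theta, hilbAt_top hM]
  exact hsum.tsum_eq

lemma summable_hilb (hM : IsDim M h) (hsum : HasSum (fun D => (θ D : ℝ) * (h D : ℝ)) 0)
    (N : Submodule k M) : Summable fun D => (θ D : ℝ) * (hilbAt M N D : ℝ) := by
  refine Summable.of_norm_bounded hsum.summable.norm fun D => ?_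
  rw [norm_mul, norm_mul, Real.norm_natCast, Real.norm_natCast]
  gcongr
  exact_mod_cast hilbAt_le hM N D

lemma term_le (hM : IsDim M h) {N' N : Submodule k M} (hle : N' ≤ N)
    (hneg : ∀ D, θ D < 0 → N ⊓ isoComp M D.1 ≤ N') (D : SimpSub k A) :
    (θ D : ℝ) * (hilbAt M N' D : ℝ) ≤ (θ D : ℝ) * (hilbAt M N D : ℝ) := by
  rcases lt_or_ge (θ D) 0 with hD | hD
  · have e : hilbAt M N' D = hilbAt M N D :=
      le_antisymm (hilbAt_mono hM D (inf_le_inf_right _ hle))
        (hilbAt_mono hM D (le_inf (hneg D hD) inf_le_right))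
    rw [e]
  · refine mul_le_mul_of_nonneg_left ?_ (by exact_mod_cast hD)
    exact_mod_cast hilbAt_mono hM D (inf_le_inf_right _ hle)

lemma theta_mono (hM : IsDim M h) (hsum : HasSum (fun D => (θ D : ℝ) * (h D : ℝ)) 0)
    {N' N : Submodule k M} (hle : N' ≤ N)
    (hneg : ∀ D, θ D < 0 → N ⊓ isoComp M D.1 ≤ N') :
    theta M θ N' ≤ theta M θ N :=
  (summable_hilb hM hsum N').tsum_le_tsum (term_le hM hle hneg) (summable_hilb hM hsum N)

lemma theta_strictMono (hM : IsDim M h) (hsum : HasSum (fun D => (θ D : ℝ) * (h D : ℝ)) 0)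
    {N' N : Submodule k M} (hle : N' ≤ N)
    (hneg : ∀ D, θ D < 0 → N ⊓ isoComp M D.1 ≤ N') (D₀ : SimpSub k A) (hθ : θ D₀ ≠ 0)
    (hne : hilbAt M N' D₀ ≠ hilbAt M N D₀) : theta M θ N' < theta M θ N := by
  refine Summable.tsum_lt_tsum (term_le hM hle hneg)
    (lt_of_le_of_ne (term_le hM hle hneg D₀) fun e => hne ?_)
    (summable_hilb hM hsum N') (summable_hilb hM hsum N)
  have : (θ D₀ : ℝ) ≠ 0 := by exact_mod_cast hθ
  exact_mod_cast mul_left_cancel₀ this e

/-- A non-zero subcomodule with zero negative parts has positive weight. -/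
lemma theta_pos (hM : IsDim M h) (htop : (⨆ D : SimpSub k A, isoComp M D.1) = ⊤)
    (hsum : HasSum (fun D => (θ D : ℝ) * (h D : ℝ)) 0) (hθ : ∀ D, h D ≠ 0 → θ D ≠ 0)
    {N : Submodule k M} (hN : HopfRep.IsSubcomod (k := k) (A := A) N) (hne : N ≠ ⊥)
    (hneg : ∀ D, θ D < 0 → N ⊓ isoComp M D.1 = ⊥) : 0 < theta M θ N := by
  obtain ⟨D₀, hD₀⟩ : ∃ D : SimpSub k A, N ⊓ isoComp M D.1 ≠ ⊥ := by
    by_contra hc
    push Not at hc
    refine hne (eq_bot_iff.2 ((le_iSup_inf M htop hN).trans ?_))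
    exact iSup_le fun D => (hc D).le
  have hpos : hilbAt M N D₀ ≠ 0 := fun e => hD₀ ((hilbAt_eq_zero_iff hM N D₀).1 e)
  have hh : h D₀ ≠ 0 := fun e => hpos (Nat.le_zero.1 (e ▸ hilbAt_le hM N D₀))
  rw [← theta_bot (M := M) (θ := θ)]
  refine theta_strictMono hM hsum bot_le (fun D hD => (hneg D hD).le) D₀ (hθ D₀ hh) ?_
  rw [hilbAt_bot]
  exact hpos.symm

end Theta

end Groth.Agent.ThetaConst
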