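/-
Generation criteria for theta-(semi)stability.
-/
import Groth.Agent.ThetaConst.Basic

set_option autoImplicit false

universe u v w x

noncomputable section

namespace Groth.Agent.ThetaConst

open W4c3ghconstell

variable {k : Type u} [Field k] {A : Type v} [CommRing A] [HopfAlgebra k A]
  {R : Type w} [CommRing R] [Algebra k R] [HopfRep.Comod k A R]
  {M : Type x} [AddCommGroup M] [Module k M] [Module R M] [IsScalarTower k R M]
  [HopfRep.Comod k A M] [TameAct.IsHopfMod k A R M]
  {h : SimpSub k A → ℕ} {θ : SimpSub k A → ℚ}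

lemma isSubcomod_top :
    HopfRep.IsSubcomod (k := k) (A := A) ((⊤ : Submodule R M).restrictScalars k) := by
  rw [isSubcomod_iff']
  exact fun _ _ _ => trivial

lemma inf_le_genIn' (N : Submodule R M) (D : SimpSub k A) (hD : θ D < 0) :
    N.restrictScalars k ⊓ isoComp M D.1 ≤
      (genIn k A R M {D | θ D < 0} N).restrictScalars k :=
  (inf_le_genIn _ N (show D ∈ {D | θ D < 0} from hD)).trans inf_le_left

lemma genIn_le' (N : Submodule R M) :
    (genIn k A R M {D : SimpSub k A | θ D < 0} N).restrictScalars k ≤ N.restrictScalars k :=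
  fun _ hm => genIn_le _ N hm

lemma inf_eq_bot_of_genIn_eq_bot {N : Submodule R M}
    (e : genIn k A R M {D | θ D < 0} N = ⊥) (D : SimpSub k A) (hD : θ D < 0) :
    N.restrictScalars k ⊓ isoComp M D.1 = ⊥ :=
  eq_bot_iff.2 fun _ hm => by simpa [e] using inf_le_genIn' N D hD hm

lemma genIn_eq_top_of_stable (hsum : HasSum (fun D => (θ D : ℝ) * (h D : ℝ)) 0)
    (hne : ∃ D, θ D ≠ 0 ∧ h D ≠ 0) (hM : IsConstellation k A R M h)
    (hst : IsThetaStable k A R M θ) : genIn k A R M {D | θ D < 0} ⊤ = ⊤ := by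
  have hdim : IsDim M h := hM.2.2
  set G := genIn k A R M {D | θ D < 0} (⊤ : Submodule R M) with hG
  by_contra hG'
  have hGbot : G ≠ ⊥ := by
    intro e
    obtain ⟨D₀, hθ₀, hh₀⟩ := hne
    have hnn : ∀ D, 0 ≤ (θ D : ℝ) * (h D : ℝ) := by
      intro D
      rcases lt_or_ge (θ D) 0 with hD | hD
      · have : hilbAt M ((⊤ : Submodule R M).restrictScalars k) D = 0 :=
          (hilbAt_eq_zero_iff hdim _ D).2 (inf_eq_bot_of_genIn_eq_bot e D hD)
        rw [Submodule.restrictScalars_top, hilbAt_top hdim] at this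
        simp [this]
      · exact mul_nonneg (by exact_mod_cast hD) (Nat.cast_nonneg _)
    have := congrFun ((hasSum_zero_iff_of_nonneg hnn).1 hsum) D₀
    simp [hθ₀, hh₀] at this
  refine absurd (hst.2 G (isSubcomod_genIn _ isSubcomod_top) hGbot hG') (not_lt.2 ?_)
  have := theta_mono hdim hsum (N' := G.restrictScalars k)
    (N := (⊤ : Submodule R M).restrictScalars k) (genIn_le' _) (inf_le_genIn' ⊤)
  rwa [Submodule.restrictScalars_top, theta_top hdim hsum] at this

lemma genIn_eq_top_of_semistable (hsum : HasSum (fun D => (θ D : ℝ) * (h D : ℝ)) 0)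
    (hM : IsConstellation k A R M h) (hθ : ∀ D, θ D ≠ 0)
    (hss : IsThetaSemistable k A R M θ) : genIn k A R M {D | θ D < 0} ⊤ = ⊤ := by
  have hdim : IsDim M h := hM.2.2
  set G := genIn k A R M {D | θ D < 0} (⊤ : Submodule R M) with hG
  have key : ∀ D : SimpSub k A, isoComp M D.1 ≤ G.restrictScalars k := by
    intro D
    by_contra hD
    have hne : hilbAt M (G.restrictScalars k) D ≠ hilbAt M ((⊤ : Submodule R M).restrictScalars k) D := by
      rw [Submodule.restrictScalars_top, hilbAt_top hdim]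
      exact fun e => hD (isoComp_le_of_hilbAt hdim e)
    have h1 := theta_strictMono hdim hsum (N' := G.restrictScalars k)
      (N := (⊤ : Submodule R M).restrictScalars k) (genIn_le' _) (inf_le_genIn' ⊤)
      D (hθ D) hne
    rw [Submodule.restrictScalars_top, theta_top hdim hsum] at h1
    exact absurd (hss.2 G (isSubcomod_genIn _ isSubcomod_top)) (not_le.2 h1)
  rw [eq_top_iff]
  intro y _
  have : y ∈ G.restrictScalars k := (iSup_le key) (by rw [hM.2.1]; trivial)
  exact this

lemma semistable_of_genIn (hsum : HasSum (fun D => (θ D : ℝ) * (h D : ℝ)) 0)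
    (hM : IsConstellation k A R M h)
    (hss : ∀ N : Submodule R M, HopfRep.IsSubcomod (k := k) (A := A) (N.restrictScalars k) →
      N ≠ ⊥ → N ≠ ⊤ → genIn k A R M {D | θ D < 0} N = N →
      0 ≤ theta M θ (N.restrictScalars k)) : IsThetaSemistable k A R M θ := by
  have hdim : IsDim M h := hM.2.2
  refine ⟨theta_top hdim hsum, fun N hN => ?_⟩
  refine le_trans ?_ (theta_mono hdim hsum
    (N' := (genIn k A R M {D | θ D < 0} N).restrictScalars k)
    (genIn_le' _) (inf_le_genIn' N))
  by_cases h1 : genIn k A R M {D | θ D < 0} N = ⊥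
  · rw [h1, Submodule.restrictScalars_bot, theta_bot]
  by_cases h2 : genIn k A R M {D | θ D < 0} N = ⊤
  · rw [h2, Submodule.restrictScalars_top, theta_top hdim hsum]
  exact hss _ (isSubcomod_genIn _ hN) h1 h2 (genIn_genIn _ _)

lemma stable_of_genIn (hsum : HasSum (fun D => (θ D : ℝ) * (h D : ℝ)) 0)
    (hM : IsConstellation k A R M h) (hθ : ∀ D, h D ≠ 0 → θ D ≠ 0)
    (hs : ∀ N : Submodule R M, HopfRep.IsSubcomod (k := k) (A := A) (N.restrictScalars k) →
      N ≠ ⊥ → N ≠ ⊤ → genIn k A R M {D | θ D < 0} N = N →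
      0 < theta M θ (N.restrictScalars k)) : IsThetaStable k A R M θ := by
  have hdim : IsDim M h := hM.2.2
  refine ⟨theta_top hdim hsum, fun N hN hbot htop => ?_⟩
  by_cases h1 : genIn k A R M {D | θ D < 0} N = ⊥
  · refine theta_pos hdim hM.2.1 hsum hθ hN ?_ (inf_eq_bot_of_genIn_eq_bot h1)
    exact fun e => hbot ((Submodule.restrictScalars_eq_bot_iff k R M).1 e)
  have h2 : genIn k A R M {D | θ D < 0} N ≠ ⊤ := fun e => htop (eq_top_iff.2 (e ▸ genIn_le _ N))
  exact (hs _ (isSubcomod_genIn _ hN) h1 h2 (genIn_genIn _ _)).trans_le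
    (theta_mono hdim hsum (genIn_le' _) (inf_le_genIn' N))

lemma stable_of_single (hsum : HasSum (fun D => (θ D : ℝ) * (h D : ℝ)) 0)
    (hM : IsConstellation k A R M h) (D₀ : SimpSub k A) (h1 : h D₀ = 1)
    (hneg : ∀ D, θ D < 0 ↔ D = D₀) (hθ : ∀ D, h D ≠ 0 → θ D ≠ 0)
    (hgen : genIn k A R M {D₀} ⊤ = ⊤) : IsThetaStable k A R M θ := by
  have hdim : IsDim M h := hM.2.2
  refine ⟨theta_top hdim hsum, fun N hN hbot htop => ?_⟩
  refine theta_pos hdim hM.2.1 hsum hθ hN
    (fun e => hbot ((Submodule.restrictScalars_eq_bot_iff k R M).1 e)) fun D hD => ?_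
  rw [(hneg D).1 hD]
  by_contra hne
  have hle : isoComp M D₀.1 ≤ N.restrictScalars k := by
    refine isoComp_le_of_hilbAt hdim ?_
    have := hilbAt_le hdim (N.restrictScalars k) D₀
    have h0 : hilbAt M (N.restrictScalars k) D₀ ≠ 0 := fun e =>
      hne ((hilbAt_eq_zero_iff hdim _ D₀).1 e)
    omega
  refine htop (eq_top_iff.2 ?_)
  rw [← hgen, genIn, Submodule.span_le]
  simp only [Set.iUnion_subset_iff]
  intro D hD m hm
  obtain rfl : D = D₀ := hD
  exact hle hm.2

end Groth.Agent.ThetaConst
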